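import Mathlib
import Cfsg.Prelude.Def_KGroupFacts
import Cfsg.Agent.H5.StemLift
import Cfsg.Agent.S0892
import Cfsg.Agent.Lib.Helper12.SchurBasic

/-!
# Generic lemmas on stem extensions used for the Schur multiplier of `J₂` (helper24)

* `commute_of_map_mem_commutator_centralizer` : lifts of elements of the derived group of the
  centralizer of `σ α` commute with `α` (no condition on the lifts);
* `exists_pinned_lifts` : over a subgroup `M = ⟨a, y⟩ ≅ A₅` with `a² = y³ = (y a)⁵ = 1` there are lifts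
  `α, η` in a subgroup of order at most `120` with `η³ = (η α)⁵ = 1` and `α²` in the kernel.
-/

set_option autoImplicit false
set_option linter.unusedVariables false
set_option linter.unusedSectionVars false

namespace Cfsg.Agent.Lib.Helper24.J2M

open Cfsg
open scoped commutatorElement

section comm

variable {Γ P : Type*} [Group Γ] [Group P] (σ : Γ →* P)

theorem commute_of_mem_ker (hcen : σ.ker ≤ Subgroup.center Γ) (α x : Γ) (hx : σ x = 1) :
    Commute α x := by
  have h := Subgroup.mem_center_iff.mp (hcen (MonoidHom.mem_ker.mpr hx)) α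
  exact h

/-- lifts of an element of the derived group of the centralizer of `σ α` commute with `α` -/
theorem commute_of_map_mem_commutator_centralizer (hsurj : Function.Surjective σ)
    (hcen : σ.ker ≤ Subgroup.center Γ) (α : Γ) :
    ∀ y ∈ ⁅Subgroup.centralizer {σ α}, Subgroup.centralizer {σ α}⁆, ∀ x : Γ, σ x = y →
      Commute α x := by
  intro y hy
  rw [Subgroup.commutator_def] at hy
  induction hy using Subgroup.closure_induction with
  | mem y hy =>
    obtain ⟨c, hc, d, hd, rfl⟩ := hy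
    intro x hx
    obtain ⟨c', rfl⟩ := hsurj c
    obtain ⟨d', rfl⟩ := hsurj d
    -- conjugation by `α` moves `c'` and `d'` by central elements
    have hcz : c'⁻¹ * (α * c' * α⁻¹) ∈ Subgroup.center Γ := by
      apply hcen
      rw [MonoidHom.mem_ker, map_mul, map_inv, map_mul, map_mul, map_inv]
      have := Subgroup.mem_centralizer_iff.mp hc (σ α) rfl
      rw [this, mul_inv_cancel_right, inv_mul_cancel]
    have hdz : d'⁻¹ * (α * d' * α⁻¹) ∈ Subgroup.center Γ := by
      apply hcen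
      rw [MonoidHom.mem_ker, map_mul, map_inv, map_mul, map_mul, map_inv]
      have := Subgroup.mem_centralizer_iff.mp hd (σ α) rfl
      rw [this, mul_inv_cancel_right, inv_mul_cancel]
    have hconj : α * ⁅c', d'⁆ * α⁻¹ = ⁅c', d'⁆ := by
      have h1 : α * ⁅c', d'⁆ * α⁻¹ = ⁅α * c' * α⁻¹, α * d' * α⁻¹⁆ := by
        rw [commutatorElement_def, commutatorElement_def]; group
      rw [h1]
      exact Cfsg.Agent.Lib.Helper12.Schur.comm_eq_of_central hcz hdz
    have hc1 : Commute α ⁅c', d'⁆ := by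
      show α * ⁅c', d'⁆ = ⁅c', d'⁆ * α
      calc α * ⁅c', d'⁆ = α * ⁅c', d'⁆ * α⁻¹ * α := by group
        _ = ⁅c', d'⁆ * α := by rw [hconj]
    have hz : σ (⁅c', d'⁆⁻¹ * x) = 1 := by
      rw [map_mul, map_inv, hx, map_commutatorElement, inv_mul_cancel]
    have hc2 : Commute α (⁅c', d'⁆⁻¹ * x) := commute_of_mem_ker σ hcen α _ hz
    have : x = ⁅c', d'⁆ * (⁅c', d'⁆⁻¹ * x) := by group
    rw [this]
    exact hc1.mul_right hc2
  | one =>
    intro x hx
    exact commute_of_mem_ker σ hcen α x hx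
  | mul y₁ y₂ h₁ h₂ ih₁ ih₂ =>
    intro x hx
    obtain ⟨x₁, hx₁⟩ := hsurj y₁
    have h2 : σ (x₁⁻¹ * x) = y₂ := by
      rw [map_mul, map_inv, hx, hx₁, inv_mul_cancel_left]
    have : x = x₁ * (x₁⁻¹ * x) := by group
    rw [this]
    exact (ih₁ x₁ hx₁).mul_right (ih₂ _ h2)
  | inv y h ih =>
    intro x hx
    have h2 : σ x⁻¹ = y := by rw [map_inv, hx, inv_inv]
    have := ih x⁻¹ h2
    exact (Commute.inv_right_iff.mp this)

end comm

section pinned

/-- `A₅` is perfect -/
theorem a5_perfect : commutator (alternatingGroup (Fin 5)) = ⊤ := by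
  haveI : IsSimpleGroup (alternatingGroup (Fin 5)) := alternatingGroup.isSimpleGroup_five
  rcases (Subgroup.Normal.eq_bot_or_eq_top (inferInstance : (commutator (alternatingGroup (Fin 5))).Normal)) with h | h
  · exfalso
    -- abelian: contradiction with explicit elements
    have hab : ∀ x y : alternatingGroup (Fin 5), x * y = y * x := by
      intro x y
      have h1 : ⁅x, y⁆ ∈ commutator (alternatingGroup (Fin 5)) := by
        rw [commutator_def]
        exact Subgroup.commutator_mem_commutator (Subgroup.mem_top x) (Subgroup.mem_top y)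
      rw [h, Subgroup.mem_bot, commutatorElement_eq_one_iff_mul_comm] at h1
      exact h1
    have := hab ⟨Equiv.swap 0 1 * Equiv.swap 2 3, Equiv.Perm.mem_alternatingGroup.mpr (by decide)⟩
      ⟨Equiv.swap 0 2 * Equiv.swap 2 4, Equiv.Perm.mem_alternatingGroup.mpr (by decide)⟩
    revert this
    decide
  · exact h

theorem card_a5 : Nat.card (alternatingGroup (Fin 5)) = 60 := by
  rw [nat_card_alternatingGroup, Nat.card_fin]
  rfl

/-- a subgroup isomorphic to a perfect group is perfect -/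
theorem perfect_of_equiv {P : Type*} [Group P] (M : Subgroup P) {A : Type*} [Group A]
    (e : M ≃* A) (hA : commutator A = ⊤) : M ≤ ⁅M, M⁆ := by
  intro m hm
  have h2 : commutator M = ⊤ := by
    rw [← Cfsg.Agent.Lib.Helper12.Schur.map_commutator_of_surj e.symm.toMonoidHom e.symm.surjective, hA]
    exact Subgroup.map_top_of_surjective _ e.symm.surjective
  have h3 : (⟨m, hm⟩ : M) ∈ commutator M := by rw [h2]; trivial
  rw [← Subgroup.map_subtype_commutator]
  exact ⟨⟨m, hm⟩, h3, rfl⟩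

theorem pow_mul_central {Γ : Type*} [Group Γ] (x k : Γ) (hk : k ∈ Subgroup.center Γ) (n : ℕ) :
    (x * k) ^ n = x ^ n * k ^ n :=
  (show Commute x k from (Subgroup.mem_center_iff.mp hk x)).mul_pow n

/-- the pinned lifts over a subgroup `M = ⟨a, y⟩ ≅ A₅` -/
theorem exists_pinned_lifts {Γ P : Type} [Group Γ] [Group P] [Finite Γ] (σ : Γ →* P)
    (hσ : IsStemExtension σ) (a y : P) (M : Subgroup P) (haM : a ∈ M) (hyM : y ∈ M)
    (e : M ≃* alternatingGroup (Fin 5))
    (ha : a * a = 1) (hy : y ^ 3 = 1) (hay : (y * a) ^ 5 = 1) :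
    ∃ (L : Subgroup Γ) (α η : Γ), α ∈ L ∧ η ∈ L ∧ Nat.card L ≤ 120 ∧ σ α = a ∧ σ η = y ∧
      η ^ 3 = 1 ∧ (η * α) ^ 5 = 1 ∧ α * α ∈ σ.ker := by
  have hperf : M ≤ ⁅M, M⁆ := perfect_of_equiv M e a5_perfect
  let L : Subgroup Γ := Cfsg.H5.StemLift.liftSub σ M
  let φ : ↥L →* ↥M := Cfsg.H5.StemLift.liftHom σ M hσ.1 hperf
  have hφ : IsStemExtension φ := Cfsg.H5.StemLift.liftHom_stem σ M hσ hperf
  have hφval : ∀ x : L, ((φ x : M) : P) = σ x.1 := fun x => rfl
  -- the kernel has order at most two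
  let e2 : ↥L ⧸ φ.ker ≃* alternatingGroup (Fin 5) :=
    (QuotientGroup.quotientKerEquivOfSurjective φ hφ.1).trans e
  have hker2 : Nat.card φ.ker ≤ 2 :=
    Cfsg.Agent.S0892.result 5 (by norm_num) (by norm_num) (by norm_num) φ.ker hφ.2.1 hφ.2.2 e2
  have hcardL : Nat.card L ≤ 120 := by
    have h1 := Subgroup.card_eq_card_quotient_mul_card_subgroup φ.ker
    rw [Nat.card_congr e2.toEquiv, card_a5] at h1
    rw [h1]
    omega
  -- elements of the kernel have square one
  have hsq : ∀ k : Γ, k ∈ L → σ k = 1 → k * k = 1 := by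
    intro k hkL hk
    have hmem : (⟨k, hkL⟩ : L) ∈ φ.ker := by
      rw [MonoidHom.mem_ker]
      apply Subtype.ext
      rw [hφval]
      exact hk
    have hpos : 0 < Nat.card φ.ker := Nat.card_pos
    have hpow : (⟨⟨k, hkL⟩, hmem⟩ : φ.ker) ^ Nat.card φ.ker = 1 := pow_card_eq_one'
    have h2 : (⟨⟨k, hkL⟩, hmem⟩ : φ.ker) ^ 2 = 1 := by
      have hc : Nat.card φ.ker = 1 ∨ Nat.card φ.ker = 2 := by omega
      rcases hc with hc | hc
      · rw [hc, pow_one] at hpow
        rw [hpow, one_pow]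
      · rw [hc] at hpow
        exact hpow
    have h3 := congrArg (fun z : φ.ker => ((z : L) : Γ)) h2
    simp only [Subgroup.coe_pow, Subgroup.coe_one] at h3
    rw [pow_two] at h3
    exact h3
  have hcen : ∀ k : Γ, σ k = 1 → k ∈ Subgroup.center Γ := fun k hk =>
    hσ.2.1 (MonoidHom.mem_ker.mpr hk)
  obtain ⟨x0, hx0L, hx0⟩ := Cfsg.H5.StemLift.exists_lift σ M hσ.1 hperf a haM
  obtain ⟨y0, hy0L, hy0⟩ := Cfsg.H5.StemLift.exists_lift σ M hσ.1 hperf y hyM
  -- adjust `y0`
  have hk1 : σ (y0 ^ 3) = 1 := by rw [map_pow, hy0, hy]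
  have hk1L : y0 ^ 3 ∈ L := L.pow_mem hy0L 3
  have hk1sq := hsq _ hk1L hk1
  let η : Γ := y0 * y0 ^ 3
  have hηL : η ∈ L := L.mul_mem hy0L hk1L
  have hη : σ η = y := by
    show σ (y0 * y0 ^ 3) = y
    rw [map_mul, hk1, mul_one, hy0]
  have hη3 : η ^ 3 = 1 := by
    show (y0 * y0 ^ 3) ^ 3 = 1
    rw [pow_mul_central _ _ (hcen _ hk1)]
    have : (y0 ^ 3) ^ 3 = y0 ^ 3 * (y0 ^ 3 * y0 ^ 3) := by rw [pow_succ, pow_two, mul_assoc]
    rw [this, hk1sq, mul_one, hk1sq]
  -- adjust `x0`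
  have hk2 : σ ((η * x0) ^ 5) = 1 := by rw [map_pow, map_mul, hη, hx0, hay]
  have hk2L : (η * x0) ^ 5 ∈ L := L.pow_mem (L.mul_mem hηL hx0L) 5
  have hk2sq := hsq _ hk2L hk2
  let α : Γ := x0 * (η * x0) ^ 5
  have hαL : α ∈ L := L.mul_mem hx0L hk2L
  have hα : σ α = a := by
    show σ (x0 * (η * x0) ^ 5) = a
    rw [map_mul, hk2, mul_one, hx0]
  have hηα : (η * α) ^ 5 = 1 := by
    show (η * (x0 * (η * x0) ^ 5)) ^ 5 = 1
    rw [← mul_assoc, pow_mul_central _ _ (hcen _ hk2)]
    set k := (η * x0) ^ 5 with hk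
    have : k ^ 5 = k * (k * k) * (k * k) := by
      rw [pow_succ, pow_succ, pow_succ, pow_succ, pow_one]; group
    rw [this, hk2sq, mul_one, mul_one, hk2sq]
  have hαα : α * α ∈ σ.ker := by
    rw [MonoidHom.mem_ker, map_mul, hα, ha]
  exact ⟨L, α, η, hαL, hηL, hcardL, hα, hη, hη3, hηα, hαα⟩

end pinned

end Cfsg.Agent.Lib.Helper24.J2M
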