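import Mathlib
import Cfsg.Agent.Lib.Helper4.TC.Schur
import Cfsg.Agent.Lib.Helper24.J2TC.A5PB
import Cfsg.Agent.Lib.Helper24.J2M.Gen

/-!
# Recognition of `A₅` from the `(2,3,5)` relations (helper24)

`a5_of_gens` : a group generated by `x, y` with `x² = y³ = (y x)⁵ = 1`, `x ≠ 1` is isomorphic to `A₅`.
Proof: the presented group `⟨x, y | x², y³, (xy)⁵⟩` has at most `60` elements (coset enumeration
certificate `A5P`), maps onto `A₅`, hence is `A₅`, which is simple.
-/

set_option autoImplicit false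
set_option linter.unusedVariables false
set_option linter.unusedSectionVars false

namespace Cfsg.Agent.Lib.Helper24.J2M

open Cfsg Cfsg.Agent.Helper4.TC Cfsg.Agent.Lib.Helper24.J2TC

/-- the presented group `⟨x, y | x², y³, (xy)⁵⟩` -/
abbrev PG5 : Type := PresentedGroup (relSet Cod2.dec A5P.bases)

theorem relSet_nil : relSet Cod2.dec ([] : List (List ℕ)) = ∅ := by
  ext r
  constructor
  · rintro ⟨b, hb, _⟩
    cases hb
  · intro h
    cases h

theorem finite_card_PG5 : Finite PG5 ∧ Nat.card PG5 ≤ 60 := by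
  obtain ⟨h1, h2⟩ := A5P.bound
  have hbot : (Subgroup.closure (relSet Cod2.dec A5P.subsL)).map
      (PresentedGroup.mk (relSet Cod2.dec A5P.bases)) = ⊥ := by
    have : A5P.subsL = [] := rfl
    rw [this, relSet_nil, Subgroup.closure_empty, Subgroup.map_bot]
  rw [hbot] at h1 h2
  have e : PG5 ⧸ (⊥ : Subgroup PG5) ≃ PG5 := (QuotientGroup.quotientBot (G := PG5)).toEquiv
  refine ⟨Finite.of_equiv _ e, ?_⟩
  rw [← Nat.card_congr e]
  exact h2

/-- the hom from `PG5` given by two elements satisfying the relations -/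
theorem exists_hom_PG5 {M : Type*} [Group M] (x y : M) (hx : x * x = 1) (hy : y ^ 3 = 1)
    (hxy : (y * x) ^ 5 = 1) :
    ∃ φ : PG5 →* M, φ (PresentedGroup.of 0) = x ∧ φ (PresentedGroup.of 1) = y := by
  let f : Fin 2 → M := ![x, y]
  have hxi : x⁻¹ = x := inv_eq_of_mul_eq_one_right hx
  have hrel : ∀ r ∈ relSet Cod2.dec A5P.bases, FreeGroup.lift f r = 1 := by
    rintro r ⟨b, hb, rfl⟩
    rw [lift_wordF]
    have hb' : b ∈ [[0, 0], [1, 1], [2, 2, 2], [3, 3, 3], [0, 2, 0, 2, 0, 2, 0, 2, 0, 2],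
      [3, 1, 3, 1, 3, 1, 3, 1, 3, 1]] := hb
    simp only [List.mem_cons, List.not_mem_nil, or_false] at hb'
    have g0 : gl f (Cod2.dec 0) = x := rfl
    have g1 : gl f (Cod2.dec 1) = x⁻¹ := rfl
    have g2 : gl f (Cod2.dec 2) = y := rfl
    have g3 : gl f (Cod2.dec 3) = y⁻¹ := rfl
    rcases hb' with rfl | rfl | rfl | rfl | rfl | rfl
    · show evc f Cod2.dec [] * gl f (Cod2.dec 0) * gl f (Cod2.dec 0) = 1
      rw [evc_nil, g0, one_mul, hx]
    · show evc f Cod2.dec [] * gl f (Cod2.dec 1) * gl f (Cod2.dec 1) = 1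
      rw [evc_nil, g1, one_mul, hxi, hx]
    · show evc f Cod2.dec [] * gl f (Cod2.dec 2) * gl f (Cod2.dec 2) * gl f (Cod2.dec 2) = 1
      rw [evc_nil, g2, one_mul, ← pow_two, ← pow_succ, hy]
    · show evc f Cod2.dec [] * gl f (Cod2.dec 3) * gl f (Cod2.dec 3) * gl f (Cod2.dec 3) = 1
      rw [evc_nil, g3, one_mul, ← pow_two, ← pow_succ, inv_pow, hy, inv_one]
    · have : ([0, 2, 0, 2, 0, 2, 0, 2, 0, 2] : List ℕ) = wpow [0, 2] 5 := rfl
      rw [this, evc_wpow]
      have h2 : evc f Cod2.dec [0, 2] = y * x := by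
        show evc f Cod2.dec [] * gl f (Cod2.dec 2) * gl f (Cod2.dec 0) = _
        rw [evc_nil, g2, g0, one_mul]
      rw [h2, hxy]
    · have : ([3, 1, 3, 1, 3, 1, 3, 1, 3, 1] : List ℕ) = wpow [3, 1] 5 := rfl
      rw [this, evc_wpow]
      have h2 : evc f Cod2.dec [3, 1] = (y * x)⁻¹ := by
        show evc f Cod2.dec [] * gl f (Cod2.dec 1) * gl f (Cod2.dec 3) = _
        rw [evc_nil, g1, g3, one_mul, mul_inv_rev]
      rw [h2, inv_pow, hxy, inv_one]
  refine ⟨PresentedGroup.toGroup hrel, ?_, ?_⟩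
  · rw [PresentedGroup.toGroup.of]; rfl
  · rw [PresentedGroup.toGroup.of]; rfl

/-- `PG5` is generated by its two generators -/
theorem closure_of_PG5 :
    Subgroup.closure {(PresentedGroup.of 0 : PG5), PresentedGroup.of 1} = ⊤ := by
  have h := PresentedGroup.closure_range_of (relSet Cod2.dec A5P.bases)
  rw [← h]
  congr 1
  ext z
  constructor
  · rintro (rfl | rfl)
    · exact ⟨0, rfl⟩
    · exact ⟨1, rfl⟩
  · rintro ⟨i, rfl⟩
    fin_cases i
    · left; rfl
    · right; rfl

/-- `PG5` is isomorphic to `A₅` -/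
theorem PG5_equiv : Nonempty (PG5 ≃* alternatingGroup (Fin 5)) := by
  obtain ⟨hfin, hcard⟩ := finite_card_PG5
  let s : alternatingGroup (Fin 5) :=
    ⟨Equiv.swap 0 1 * Equiv.swap 2 3, Equiv.Perm.mem_alternatingGroup.mpr (by decide)⟩
  let t : alternatingGroup (Fin 5) :=
    ⟨Equiv.swap 0 2 * Equiv.swap 2 4, Equiv.Perm.mem_alternatingGroup.mpr (by decide)⟩
  have hs : s * s = 1 := by decide
  have ht : t ^ 3 = 1 := by decide
  have hts : (t * s) ^ 5 = 1 := by decide
  obtain ⟨ψ, hψ0, hψ1⟩ := exists_hom_PG5 s t hs ht hts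
  -- the range contains elements of orders 2, 3, 5
  have hs2 : orderOf s = 2 := orderOf_eq_prime (by rw [pow_two]; exact hs) (by decide)
  have ht3 : orderOf t = 3 := orderOf_eq_prime ht (by decide)
  haveI : Fact (Nat.Prime 5) := ⟨by norm_num⟩
  have hts5 : orderOf (t * s) = 5 := orderOf_eq_prime hts (by decide)
  have hsR : s ∈ ψ.range := ⟨_, hψ0⟩
  have htR : t ∈ ψ.range := ⟨_, hψ1⟩
  have htsR : t * s ∈ ψ.range := ψ.range.mul_mem htR hsR
  have hdvd : ∀ g : alternatingGroup (Fin 5), g ∈ ψ.range → orderOf g ∣ Nat.card ψ.range := by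
    intro g hg
    have := orderOf_dvd_natCard (⟨g, hg⟩ : ψ.range)
    rwa [Subgroup.orderOf_mk] at this
  have h2 := hdvd s hsR
  have h3 := hdvd t htR
  have h5 := hdvd _ htsR
  rw [hs2] at h2
  rw [ht3] at h3
  rw [hts5] at h5
  have h30 : 30 ∣ Nat.card ψ.range := by
    have h6 : 6 ∣ Nat.card ψ.range := Nat.Coprime.mul_dvd_of_dvd_of_dvd (by norm_num) h2 h3
    exact Nat.Coprime.mul_dvd_of_dvd_of_dvd (by norm_num : Nat.Coprime 6 5) h6 h5
  have hidx := ψ.range.card_mul_index
  rw [card_a5] at hidx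
  have hsurj : ψ.range = ⊤ := by
    obtain ⟨k, hk⟩ := h30
    have hk' : k * ψ.range.index = 2 := by
      rw [hk] at hidx
      nlinarith
    have hi : ψ.range.index = 1 ∨ ψ.range.index = 2 := by
      have hle : ψ.range.index ∣ 2 := Dvd.intro_left k hk'
      have := Nat.le_of_dvd (by norm_num) hle
      have hne : ψ.range.index ≠ 0 := by
        intro h0; rw [h0] at hk'; omega
      omega
    rcases hi with hi | hi
    · exact Subgroup.index_eq_one.mp hi
    · exfalso
      haveI : ψ.range.Normal := Subgroup.normal_of_index_eq_two hi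
      haveI : IsSimpleGroup (alternatingGroup (Fin 5)) := alternatingGroup.isSimpleGroup_five
      rcases Subgroup.Normal.eq_bot_or_eq_top (inferInstance : ψ.range.Normal) with hb | ht'
      · rw [hb, Subgroup.mem_bot] at hsR
        rw [hsR, orderOf_one] at hs2
        omega
      · rw [ht', Subgroup.index_top] at hi
        omega
  have hψs : Function.Surjective ψ := MonoidHom.range_eq_top.mp hsurj
  have hge : 60 ≤ Nat.card PG5 := by
    rw [← card_a5]
    exact Nat.card_le_card_of_surjective ψ hψs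
  have hbij : Function.Bijective ψ := by
    rw [Nat.bijective_iff_surjective_and_card]
    exact ⟨hψs, by rw [card_a5]; omega⟩
  exact ⟨MulEquiv.ofBijective ψ hbij⟩

/-- a group generated by `x, y` with `x² = y³ = (y x)⁵ = 1`, `x ≠ 1` is isomorphic to `A₅` -/
theorem a5_of_gens {M : Type*} [Group M] (x y : M) (hx : x * x = 1) (hy : y ^ 3 = 1)
    (hxy : (y * x) ^ 5 = 1) (hne : x ≠ 1) (hgen : Subgroup.closure {x, y} = ⊤) :
    Nonempty (M ≃* alternatingGroup (Fin 5)) := by
  obtain ⟨e⟩ := PG5_equiv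
  obtain ⟨φ, hφ0, hφ1⟩ := exists_hom_PG5 x y hx hy hxy
  haveI : IsSimpleGroup PG5 := by
    haveI : IsSimpleGroup (alternatingGroup (Fin 5)) := alternatingGroup.isSimpleGroup_five
    haveI : Nontrivial PG5 := e.toEquiv.nontrivial
    exact IsSimpleGroup.isSimpleGroup_of_surjective e.symm.toMonoidHom e.symm.surjective
  have hsurj : Function.Surjective φ := by
    rw [← MonoidHom.range_eq_top, eq_top_iff, ← hgen, Subgroup.closure_le]
    rintro z (rfl | rfl)
    · exact ⟨_, hφ0⟩
    · exact ⟨_, hφ1⟩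
  have hinj : Function.Injective φ := by
    rw [← MonoidHom.ker_eq_bot_iff]
    rcases Subgroup.Normal.eq_bot_or_eq_top (inferInstance : φ.ker.Normal) with hb | ht
    · exact hb
    · exfalso
      apply hne
      rw [← hφ0]
      have : (PresentedGroup.of 0 : PG5) ∈ φ.ker := by rw [ht]; trivial
      exact MonoidHom.mem_ker.mp this
  exact ⟨(MulEquiv.ofBijective φ ⟨hinj, hsurj⟩).symm.trans e⟩

end Cfsg.Agent.Lib.Helper24.J2M
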