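import Mathlib
import Cfsg.Agent.Lib.Helper4.TC.Schur
import Cfsg.Agent.Lib.Helper24.J2TC.Cod2

/-!
# The words of the weak presentation of the covering group of `J₂` (helper24)

Letter codes: `0 = a`, `1 = a⁻¹`, `2 = b`, `3 = b⁻¹`; a word acts from the left to the right
(`evc`: the first letter acts first).
-/

set_option autoImplicit false
set_option linter.unusedVariables false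
set_option linter.unusedSectionVars false

namespace Cfsg.Agent.Lib.Helper24.J2M

open Cfsg Cfsg.Agent.Helper4.TC Cfsg.Agent.Lib.Helper24.J2TC
open scoped commutatorElement

def wW : List ℕ := [0, 2, 0, 2, 0, 3, 0, 2, 0, 3, 0, 2]
def xW0 : List ℕ := [0, 3, 0, 2, 0, 3, 0, 2, 0, 3, 0, 2, 0, 3, 0, 2, 0, 3, 0, 2, 0, 3, 0, 2]
def cW0 : List ℕ := [2, 0, 3, 0, 2, 0, 2, 0, 3, 0, 2, 0, 3, 0, 3, 0, 2, 0, 3, 0, 2, 0, 3, 0, 3, 0, 2, 0, 3, 0, 2, 0, 3, 0, 2, 0, 2, 0, 3]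
def dW0 : List ℕ := [3, 0, 2, 0, 2, 0, 3, 0, 3, 0, 2, 0, 3, 0, 2, 0, 2, 0, 3, 0, 3, 0, 2, 0, 2, 0, 3, 0, 2, 0, 3, 0, 2, 0, 2, 0, 3, 0, 3, 0, 2, 0, 2, 0, 3, 0, 3]
def xW1 : List ℕ := [0, 2, 0, 3, 0, 2, 0, 3, 0, 2, 0, 3, 0, 2, 0, 3, 0, 2, 0, 3, 0, 2, 0, 3]
def cW1 : List ℕ := [3, 0, 2, 0, 2, 0, 3, 0, 2, 0, 3, 0, 2, 0, 2, 0, 3, 0, 2, 0, 3, 0, 2, 0, 3, 0, 3, 0, 2, 0, 3, 0, 2, 0, 3, 0, 3, 0, 2]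
def dW1 : List ℕ := [3, 0, 3, 0, 2, 0, 2, 0, 3, 0, 3, 0, 2, 0, 2, 0, 3, 0, 2, 0, 3, 0, 2, 0, 2, 0, 3, 0, 3, 0, 2, 0, 2, 0, 3, 0, 2, 0, 3, 0, 3, 0, 2, 0, 2, 0, 3]
def xW2 : List ℕ := [2, 0, 2, 0, 3, 0, 2, 0, 2, 0, 3, 0, 2, 0, 3, 0, 2, 0, 2, 0, 3, 0, 2, 0, 3, 0, 2, 0, 2, 0, 2]
def cW2 : List ℕ := [2, 0, 2, 0, 2, 0, 3, 0, 2, 0, 3, 0, 2, 0, 2, 0, 3, 0, 2, 0, 3, 0, 2, 0, 2, 0, 3, 0, 2, 0, 2]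
def dW2 : List ℕ := [2, 0, 2, 0, 3, 0, 2, 0, 3, 0, 3, 0, 2, 0, 3, 0, 3, 0, 2, 0, 2, 0, 3, 0, 2, 0, 3, 0, 2, 0, 3, 0, 2, 0, 2, 0, 3, 0, 2, 0, 3, 0, 3]
def xW3 : List ℕ := [2, 0, 2, 0, 2, 0, 3, 0, 2, 0, 3, 0, 2, 0, 2, 0, 3, 0, 2, 0, 3, 0, 2, 0, 2, 0, 3, 0, 2, 0, 2]
def cW3 : List ℕ := [2, 0, 2, 0, 2, 0, 3, 0, 3, 0, 2, 0, 3, 0, 3, 0, 2, 0, 3, 0, 2, 0, 3, 0, 3, 0, 2, 0, 3, 0, 3]
def dW3 : List ℕ := [2, 0, 2, 0, 3, 0, 2, 0, 3, 0, 3, 0, 2, 0, 3, 0, 2, 0, 3, 0, 2, 0, 3, 0, 2, 0, 3, 0, 3, 0, 2, 0, 3, 0, 3, 0, 2, 0, 2, 0, 3, 0, 3]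
def xW4 : List ℕ := [0, 2, 0, 2, 0, 3, 0, 2, 0, 2, 0, 3, 0, 3, 0, 2, 0, 3, 0, 2, 0, 3, 0, 2, 0, 3, 0, 3, 0, 2, 0, 2, 0, 3, 0, 2, 0, 2]
def cW4 : List ℕ := [2, 0, 2, 0, 3, 0, 2, 0, 3, 0, 2, 0, 3, 0, 2, 0, 2, 0, 3, 0, 3, 0, 2, 0, 3, 0, 2, 0, 3, 0, 2, 0, 3, 0, 3]
def dW4 : List ℕ := [2, 0, 2, 0, 2, 0, 3, 0, 3, 0, 2, 0, 3, 0, 2, 0, 3, 0, 2, 0, 3, 0, 3, 0, 2, 0, 3, 0, 2, 0, 3, 0, 2, 0, 3, 0, 2, 0, 3, 0, 3, 0, 3]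
def xW5 : List ℕ := [3, 0, 2, 0, 2, 0, 3, 0, 2, 0, 3, 0, 2, 0, 3, 0, 3, 0, 2, 0, 3, 0, 2, 0, 3, 0, 3, 0, 2, 0, 3, 0, 2, 0, 2, 0, 3, 0, 2]
def cW5 : List ℕ := [2, 0, 3, 0, 2, 0, 3, 0, 2, 0, 3, 0, 2, 0, 3, 0, 2, 0, 3, 0, 2, 0, 3]
def dW5 : List ℕ := [3, 0, 3, 0, 2, 0, 2, 0, 3, 0, 3, 0, 2, 0, 2, 0, 3, 0, 2, 0, 3, 0, 2, 0, 2, 0, 3, 0, 3, 0, 2, 0, 2, 0, 3, 0, 2, 0, 3, 0, 3, 0, 2, 0, 2, 0, 3]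
def gW0 : List ℕ := [0, 2, 0, 2, 0, 3, 0, 2, 0, 3, 0, 2, 0, 3, 0, 2, 0, 2, 0, 3, 0, 2, 0, 3, 0, 2, 0, 3, 0, 2, 0, 3, 0, 2, 0, 2, 0, 3, 0, 3, 0, 2, 0, 2, 0, 3, 0, 2, 0, 3, 0, 3, 0]
def gW1 : List ℕ := [0, 2, 0, 2, 0, 3, 0, 3, 0, 2, 0, 3, 0, 2, 0, 2, 0, 3, 0, 3, 0, 2, 0, 3, 0, 2, 0, 3, 0, 3, 0, 2, 0, 3, 0, 2, 0, 3, 0, 2, 0, 3, 0, 2, 0, 3, 0, 3, 0, 2, 0, 3, 0]
def gW2 : List ℕ := [0, 2, 0, 2, 0, 3, 0, 2, 0, 3, 0, 2, 0, 3, 0, 2, 0, 2, 0, 3, 0, 3, 0, 2, 0, 2, 0, 3, 0, 3, 0, 2, 0, 2, 0, 3, 0, 3, 0, 2, 0, 2, 0, 3, 0, 2, 0, 3, 0, 2, 0, 2, 0]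
def gW3 : List ℕ := [0, 3, 0, 2, 0, 3, 0, 2, 0, 3, 0, 2, 0, 2, 0, 3, 0, 3, 0, 2, 0, 2, 0, 3, 0, 3, 0, 2, 0, 2, 0, 3, 0, 3, 0, 2, 0, 2, 0, 3, 0, 2, 0, 3, 0, 2, 0, 3, 0, 2]

/-- the conjugate `y₁` of `b` -/
def y1W : List ℕ := invW wW ++ [2] ++ wW
def r1W : List ℕ := wpow [0, 2] 7
def ay5W : List ℕ := wpow ([0] ++ y1W) 5

/-- the six words of elements of the derived group of the centralizer of `a` -/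
def xWs : List (List ℕ) := [xW0, xW1, xW2, xW3, xW4, xW5]

/-- the commutator word: evaluates to `c * d * c⁻¹ * d⁻¹` -/
def cdW (c d : List ℕ) : List ℕ := invW d ++ invW c ++ d ++ c

theorem evc_cdW {P : Type*} [Group P] (f : Fin 2 → P) (c d : List ℕ) :
    evc f Cod2.dec (cdW c d) = ⁅evc f Cod2.dec c, evc f Cod2.dec d⁆ := by
  unfold cdW
  rw [evc_append, evc_append, evc_append, evc_invW f Cod2.coding, evc_invW f Cod2.coding,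
    commutatorElement_def]
  group

/-- the relator which says that `u` and `g` commute -/
def commW (u g : List ℕ) : List ℕ := invW u ++ invW g ++ u ++ g

theorem evc_commW {P : Type*} [Group P] (f : Fin 2 → P) (u g : List ℕ)
    (h : Commute (evc f Cod2.dec g) (evc f Cod2.dec u)) : evc f Cod2.dec (commW u g) = 1 := by
  unfold commW
  rw [evc_append, evc_append, evc_append, evc_invW f Cod2.coding, evc_invW f Cod2.coding]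
  have h' : evc f Cod2.dec g * evc f Cod2.dec u = evc f Cod2.dec u * evc f Cod2.dec g := h
  have h2 : evc f Cod2.dec g * (evc f Cod2.dec u * ((evc f Cod2.dec g)⁻¹ * (evc f Cod2.dec u)⁻¹)) =
      (evc f Cod2.dec g * evc f Cod2.dec u) * (evc f Cod2.dec g)⁻¹ * (evc f Cod2.dec u)⁻¹ := by group
  rw [h2, h']
  group

/-- the relators of the weak presentation -/
def basesS : List (List ℕ) :=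
  [commW [0, 0] [2], [2, 2, 2], ay5W, commW xW0 [0], commW xW1 [0], commW xW2 [0], commW xW3 [0],
    commW xW4 [0], commW xW5 [0], commW r1W [0], commW r1W [2]]

end Cfsg.Agent.Lib.Helper24.J2M
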