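import Mathlib
import Cfsg.Agent.Lib.Helper4.TC.Schur
import Cfsg.Agent.Lib.Helper16.IcoRows
import Cfsg.Agent.Lib.Helper24.J2TC.Cod2
import Cfsg.Agent.Lib.Helper24.J2M.Words

/-!
# The permutation side of the Schur multiplier of `J₂` (helper24)

Standard generators `aP` (class `2B`, a product of 11 generator reflections) and `bP` (class `3B`, a product
of two) of the certified permutation group of degree `315`, and the kernel-checked identities between words
in them: the relations, the commutator expressions of six elements of the derived group of the centralizer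
of `aP`, and the four generator reflections as words in `aP`, `bP`.
-/

set_option autoImplicit false
set_option linter.unusedVariables false
set_option linter.unusedSectionVars false
set_option maxRecDepth 100000

namespace Cfsg.Agent.Lib.Helper24.J2M

open Cfsg Cfsg.Agent.Helper4.TC Cfsg.Agent.Lib.Helper24.J2TC Cfsg.Agent.Lib.Helper28.BSGS
  Cfsg.Agent.Lib.Helper11.Ico Cfsg.Agent.Lib.Helper16.IcoAsm Cfsg.Agent.Lib.Helper16.IcoFinal
open scoped commutatorElement

/-- generator indices of `aP` (product order) -/
def aL : List ℕ := [3, 2, 0, 1, 2, 0, 3, 1, 2, 1, 2]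
def bL : List ℕ := [1, 0]
def BL : List ℕ := [0, 1]

abbrev gp (k : ℕ) : Equiv.Perm (Fin 315) := gperm 315 9 PD.gens k

noncomputable def aP : Equiv.Perm (Fin 315) := (aL.map gp).prod
noncomputable def bP : Equiv.Perm (Fin 315) := (bL.map gp).prod
noncomputable def BP : Equiv.Perm (Fin 315) := (BL.map gp).prod

def aT : List ℕ := aL.map (gtab PD.gens)
def bT : List ℕ := bL.map (gtab PD.gens)
def BT : List ℕ := BL.map (gtab PD.gens)

theorem lt9 : ∀ l : List ℕ, (∀ i ∈ l, i < 4) → ∀ i ∈ l, i < PD.gens.length := by
  intro l h i hi
  rw [gens_length]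
  have := h i hi
  omega

theorem acts_aP : ActsByW 315 9 aP aT := actsByW_word PD.gens_ok aL (lt9 aL (by decide))
theorem acts_bP : ActsByW 315 9 bP bT := actsByW_word PD.gens_ok bL (lt9 bL (by decide))
theorem acts_BP : ActsByW 315 9 BP BT := actsByW_word PD.gens_ok BL (lt9 BL (by decide))

theorem actsByW_append {g h : Equiv.Perm (Fin 315)} {u v : List ℕ} (hg : ActsByW 315 9 g u)
    (hh : ActsByW 315 9 h v) : ActsByW 315 9 (g * h) (u ++ v) := by
  intro x
  show (g (h x)).val = evalW 9 (u ++ v) x.val
  rw [hg, hh]
  unfold evalW
  rw [List.foldr_append]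

theorem aa_ok : wordId 315 9 (aT ++ aT) = true := by decide +kernel
theorem bB_ok : wordId 315 9 (bT ++ BT) = true := by decide +kernel

theorem aP_mul_self : aP * aP = 1 := eq_one_of_wordId 315 9 (actsByW_append acts_aP acts_aP) aa_ok
theorem bP_mul_BP : bP * BP = 1 := eq_one_of_wordId 315 9 (actsByW_append acts_bP acts_BP) bB_ok

theorem aP_inv : aP⁻¹ = aP := inv_eq_of_mul_eq_one_right aP_mul_self
theorem bP_inv : bP⁻¹ = BP := inv_eq_of_mul_eq_one_right bP_mul_BP

/-- the assignment of the two generators -/
noncomputable def fP : Fin 2 → Equiv.Perm (Fin 315) := ![aP, bP]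

/-- the packed tables of `aP`, `bP`, `bP⁻¹` -/
def aTab : ℕ := 2598472928354051021503527285597172422271450657531469361601928555746967270555063537902609939528172759991600503976778117195761538152210247076264501861069312457746687587077971833809031037005769609276696698644906332417331580641705112248159622067257331576961659236020763683178152168832393830040135013644080339962128788535106000450484115997227980359835249632273595988360607338335857450158848770209060531726157102060845098238655566792468886535509842118973316382313787689554319850664034944900029537614988580771768527518599218156912388295921437118406380183868537347142097675886366597089389866190932246909230667911666357744262979552256689107583434883410005263170788771475341771324408130930507461858212138885498066937869409517327091645655328347435193714238873693311352092979379601160337990690263678299177663433491028341426610119349168333214997493707210906541756056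
def bTab : ℕ := 6910334417085680582146429976164460627163496166906539211810444019283074064627103179989603421449682794558450824141910631640467506132518280561890558205718275507666951744089359635609507862045671192864819635954445238872942311948155891560160189870998472948346677457819490797283554035400638135413010742827820749353093750550728643607191220538295988522410088881997705532979832924198416648831632551157058799921832562078712337172607404678379700846958647322236982620341090532195147696081134970998296644962159620818062790986448548834384990583067403938060506072474531493910489199011762240581641512275722170612753112297702986607265197570392529399866283796981259191953929356761397560431628039884928850952974110148853536460621836912147847756020875976402954257919778767455928763119620327615661463694110024363359851079693268782520063448824952656598329613160903573010445463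
def BTab : ℕ := 7572684256506588352968407108835010881702720635403593792870838276793417569749002369961009876746267507433238941038772633922243534368152821318381503694567017978273374651857038700640400737167726008245443700872527773988374379652067114976136367631938954782505911905565511385176231339141699723512250639482573761095827715828202909150141267344053103719136677347467881200050413278016101769524859272523365939870176662173075496653938160857088105209178668930192219466811165265647895970542537425677320454743519085921658520241844081246191054897947653707802289803745852543939017825646130667521356191462970537584740009211228822753947653829165660369930022535527055190133366493889803297491888275731193875983837612008914387142327175569155353332791827876012569454231210666858173215831393390130842260434735506587345119729516678612986814854961496087371153778842940642216932890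

def tabEq (t : ℕ) (ws : List ℕ) : Bool := (List.range 315).all fun x => look 9 t x == evalW 9 ws x

theorem aTab_ok : tabEq aTab aT = true := by decide +kernel
theorem bTab_ok : tabEq bTab bT = true := by decide +kernel
theorem BTab_ok : tabEq BTab BT = true := by decide +kernel

theorem apply_of_tabEq {g : Equiv.Perm (Fin 315)} {t : ℕ} {ws : List ℕ} (hg : ActsByW 315 9 g ws)
    (h : tabEq t ws = true) (x : Fin 315) : (g x).val = look 9 t x.val := by
  unfold tabEq at h
  rw [List.all_eq_true] at h
  rw [hg x]
  exact (beq_iff_eq.mp (h x.val (List.mem_range.mpr x.isLt))).symm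

/-- the table of a letter code -/
def tabOf (c : ℕ) : ℕ := if c < 2 then aTab else if c = 2 then bTab else BTab

/-- the image of a point under a word of letter codes (the first letter acts first) -/
def evalL : List ℕ → ℕ → ℕ
  | [], x => x
  | c :: u, x => evalL u (look 9 (tabOf c) x)

theorem gl_apply (c : ℕ) (hc : c < 4) (x : Fin 315) :
    ((gl fP (Cod2.dec c)) x).val = look 9 (tabOf c) x.val := by
  interval_cases c
  · exact apply_of_tabEq acts_aP aTab_ok x
  · show ((aP⁻¹) x).val = _
    rw [aP_inv]; exact apply_of_tabEq acts_aP aTab_ok x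
  · exact apply_of_tabEq acts_bP bTab_ok x
  · show ((bP⁻¹) x).val = _
    rw [bP_inv]; exact apply_of_tabEq acts_BP BTab_ok x

theorem evc_apply : ∀ (w : List ℕ), (∀ c ∈ w, c < 4) → ∀ x : Fin 315,
    ((evc fP Cod2.dec w) x).val = evalL w x.val
  | [], _, x => rfl
  | c :: u, h, x => by
    rw [evc_cons]
    show ((evc fP Cod2.dec u) ((gl fP (Cod2.dec c)) x)).val = evalL u (look 9 (tabOf c) x.val)
    rw [evc_apply u (fun d hd => h d (List.mem_cons_of_mem _ hd)), gl_apply c (h c List.mem_cons_self)]

def lettersOK4 (w : List ℕ) : Bool := w.all fun c => decide (c < 4)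

theorem lettersOK4_spec {w : List ℕ} (h : lettersOK4 w = true) : ∀ c ∈ w, c < 4 := by
  intro c hc
  unfold lettersOK4 at h
  rw [List.all_eq_true] at h
  exact of_decide_eq_true (h c hc)

/-- the word acts as the identity -/
def idL (w : List ℕ) : Bool := lettersOK4 w && (List.range 315).all fun x => evalL w x == x

/-- two words act in the same way -/
def eqL (u v : List ℕ) : Bool :=
  lettersOK4 u && lettersOK4 v && (List.range 315).all fun x => evalL u x == evalL v x

/-- the word acts as the table -/
def eqT (t : ℕ) (v : List ℕ) : Bool :=
  lettersOK4 v && (List.range 315).all fun x => look 9 t x == evalL v x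

/-- a word evaluates to one -/
theorem evc_eq_one {w : List ℕ} (h : idL w = true) : evc fP Cod2.dec w = 1 := by
  unfold idL at h
  rw [Bool.and_eq_true, List.all_eq_true] at h
  apply Equiv.ext
  intro x
  apply Fin.ext
  rw [evc_apply w (lettersOK4_spec h.1) x]
  exact beq_iff_eq.mp (h.2 x.val (List.mem_range.mpr x.isLt))

/-- two words evaluate to the same permutation -/
theorem evc_eq_evc {u v : List ℕ} (h : eqL u v = true) : evc fP Cod2.dec u = evc fP Cod2.dec v := by
  unfold eqL at h
  rw [Bool.and_eq_true, Bool.and_eq_true, List.all_eq_true] at h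
  apply Equiv.ext
  intro x
  apply Fin.ext
  rw [evc_apply u (lettersOK4_spec h.1.1) x, evc_apply v (lettersOK4_spec h.1.2) x]
  exact beq_iff_eq.mp (h.2 x.val (List.mem_range.mpr x.isLt))

theorem gp_eq_evc {k : ℕ} (hk : k < 4) {v : List ℕ} (h : eqT (gtab PD.gens k) v = true) :
    gp k = evc fP Cod2.dec v := by
  unfold eqT at h
  rw [Bool.and_eq_true, List.all_eq_true] at h
  apply Equiv.ext
  intro x
  apply Fin.ext
  rw [evc_apply v (lettersOK4_spec h.1) x,
    gperm_apply PD.gens_ok (show k < PD.gens.length by rw [gens_length]; omega) x]
  exact beq_iff_eq.mp (h.2 x.val (List.mem_range.mpr x.isLt))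

/-! ## the kernel checks -/

theorem rel_aa : evc fP Cod2.dec [0, 0] = 1 := evc_eq_one (by decide +kernel)
theorem rel_bbb : evc fP Cod2.dec [2, 2, 2] = 1 := evc_eq_one (by decide +kernel)
theorem rel_r1 : evc fP Cod2.dec r1W = 1 := evc_eq_one (by decide +kernel)
theorem rel_ay5 : evc fP Cod2.dec ay5W = 1 := evc_eq_one (by decide +kernel)

theorem comm_c0 : evc fP Cod2.dec ([0] ++ cW0) = evc fP Cod2.dec (cW0 ++ [0]) :=
  evc_eq_evc (by decide +kernel)
theorem comm_d0 : evc fP Cod2.dec ([0] ++ dW0) = evc fP Cod2.dec (dW0 ++ [0]) :=
  evc_eq_evc (by decide +kernel)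
theorem x_eq0 : evc fP Cod2.dec xW0 = evc fP Cod2.dec (cdW cW0 dW0) :=
  evc_eq_evc (by decide +kernel)
theorem comm_c1 : evc fP Cod2.dec ([0] ++ cW1) = evc fP Cod2.dec (cW1 ++ [0]) :=
  evc_eq_evc (by decide +kernel)
theorem comm_d1 : evc fP Cod2.dec ([0] ++ dW1) = evc fP Cod2.dec (dW1 ++ [0]) :=
  evc_eq_evc (by decide +kernel)
theorem x_eq1 : evc fP Cod2.dec xW1 = evc fP Cod2.dec (cdW cW1 dW1) :=
  evc_eq_evc (by decide +kernel)
theorem comm_c2 : evc fP Cod2.dec ([0] ++ cW2) = evc fP Cod2.dec (cW2 ++ [0]) :=
  evc_eq_evc (by decide +kernel)
theorem comm_d2 : evc fP Cod2.dec ([0] ++ dW2) = evc fP Cod2.dec (dW2 ++ [0]) :=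
  evc_eq_evc (by decide +kernel)
theorem x_eq2 : evc fP Cod2.dec xW2 = evc fP Cod2.dec (cdW cW2 dW2) :=
  evc_eq_evc (by decide +kernel)
theorem comm_c3 : evc fP Cod2.dec ([0] ++ cW3) = evc fP Cod2.dec (cW3 ++ [0]) :=
  evc_eq_evc (by decide +kernel)
theorem comm_d3 : evc fP Cod2.dec ([0] ++ dW3) = evc fP Cod2.dec (dW3 ++ [0]) :=
  evc_eq_evc (by decide +kernel)
theorem x_eq3 : evc fP Cod2.dec xW3 = evc fP Cod2.dec (cdW cW3 dW3) :=
  evc_eq_evc (by decide +kernel)
theorem comm_c4 : evc fP Cod2.dec ([0] ++ cW4) = evc fP Cod2.dec (cW4 ++ [0]) :=
  evc_eq_evc (by decide +kernel)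
theorem comm_d4 : evc fP Cod2.dec ([0] ++ dW4) = evc fP Cod2.dec (dW4 ++ [0]) :=
  evc_eq_evc (by decide +kernel)
theorem x_eq4 : evc fP Cod2.dec xW4 = evc fP Cod2.dec (cdW cW4 dW4) :=
  evc_eq_evc (by decide +kernel)
theorem comm_c5 : evc fP Cod2.dec ([0] ++ cW5) = evc fP Cod2.dec (cW5 ++ [0]) :=
  evc_eq_evc (by decide +kernel)
theorem comm_d5 : evc fP Cod2.dec ([0] ++ dW5) = evc fP Cod2.dec (dW5 ++ [0]) :=
  evc_eq_evc (by decide +kernel)
theorem x_eq5 : evc fP Cod2.dec xW5 = evc fP Cod2.dec (cdW cW5 dW5) :=
  evc_eq_evc (by decide +kernel)
theorem g_eq0 : gp 0 = evc fP Cod2.dec gW0 := gp_eq_evc (by norm_num) (by decide +kernel)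
theorem g_eq1 : gp 1 = evc fP Cod2.dec gW1 := gp_eq_evc (by norm_num) (by decide +kernel)
theorem g_eq2 : gp 2 = evc fP Cod2.dec gW2 := gp_eq_evc (by norm_num) (by decide +kernel)
theorem g_eq3 : gp 3 = evc fP Cod2.dec gW3 := gp_eq_evc (by norm_num) (by decide +kernel)

theorem aP_ne_one : aP ≠ 1 := by
  intro h
  have h1 := apply_of_tabEq acts_aP aTab_ok (0 : Fin 315)
  rw [h] at h1
  revert h1
  decide +kernel

end Cfsg.Agent.Lib.Helper24.J2M
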