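import Mathlib
import Cfsg.Prelude.Def_KGroupFacts
import Cfsg.Agent.Lib.Helper24.J2M.PermSide

/-!
# `2·J₂ → J₂` is a stem extension (helper24)

The product `X` of the eleven reflections of `aP` has `X² = -1` (its image in `J₂` is an involution, and
`X²` moves a vector), and `2·J₂` is generated by involutions, so that every square lies in the commutator
subgroup: `-1 ∈ [2·J₂, 2·J₂]`.
-/

set_option autoImplicit false
set_option linter.unusedVariables false
set_option linter.unusedSectionVars false
set_option maxRecDepth 100000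

namespace Cfsg.Agent.Lib.Helper24.J2M

open Cfsg Cfsg.Spor Quaternion Cfsg.Agent.Lib.Helper28.BSGS
  Cfsg.Agent.Lib.Helper11.Ico Cfsg.Agent.Lib.Helper16.IcoAsm Cfsg.Agent.Lib.Helper16.IcoFinal
  Cfsg.Agent.Lib.Helper16.IcoLin Cfsg.Agent.Lib.Helper16.IcoNeg Cfsg.Agent.Lib.Helper16.IcoKer
  Cfsg.Agent.Lib.Helper16.IcoLines Cfsg.Agent.Lib.Helper16.IcoBridge Cfsg.Agent.Lib.Helper16.IcoGen
  Cfsg.Agent.Lib.Helper16.IcoEval Cfsg.Agent.Lib.Helper16.IcoRows Cfsg.Agent.Lib.Helper16.IcoBlockB
open scoped commutatorElement

/-! ## squares in a group generated by involutions -/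

theorem sq_mem_commutator_of_closure {G : Type*} [Group G] (S : Set G) (hS : ∀ s ∈ S, s * s = 1)
    (hgen : Subgroup.closure S = ⊤) (x : G) : x * x ∈ commutator G := by
  -- in the abelianization every element has square one
  have key : ∀ x : G, (Abelianization.of x) * (Abelianization.of x) = (1 : Abelianization G) := by
    intro x
    have hx : x ∈ Subgroup.closure S := by rw [hgen]; trivial
    induction hx using Subgroup.closure_induction with
    | mem s hs => rw [← map_mul, hS s hs, map_one]
    | one => rw [map_one, mul_one]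
    | mul a b _ _ iha ihb =>
      rw [map_mul]
      calc Abelianization.of a * Abelianization.of b * (Abelianization.of a * Abelianization.of b)
          = (Abelianization.of a * Abelianization.of a) *
              (Abelianization.of b * Abelianization.of b) := by
            rw [mul_mul_mul_comm]
        _ = 1 := by rw [iha, ihb, mul_one]
    | inv a _ iha =>
      rw [map_inv, ← mul_inv, iha, inv_one]
  have h1 : Abelianization.of (x * x) = 1 := by rw [map_mul]; exact key x
  rw [← Abelianization.ker_of]
  exact MonoidHom.mem_ker.mpr h1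

/-- `2·J₂` is generated by the reflections -/
theorem twoJ2_closure :
    Subgroup.closure {g : twoJ2 | IsIcoReflection (g : Equiv.Perm icoLeech)} = ⊤ := by
  have h1 : Subgroup.closure (((↑) : twoJ2 → Equiv.Perm icoLeech) ⁻¹' {f | IsIcoReflection f}) = ⊤ :=
    Subgroup.closure_closure_coe_preimage
  exact h1

theorem refl_sq (g : twoJ2) (hg : IsIcoReflection (g : Equiv.Perm icoLeech)) : g * g = 1 := by
  obtain ⟨r, hr, hr4, h⟩ := (isIcoReflection_iff _).mp hg
  apply Subtype.ext
  show (g : Equiv.Perm icoLeech) * g = 1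
  rw [h]
  exact reflPerm_mul_self r hr hr4

theorem sq_mem_commutator_twoJ2 (x : twoJ2) : x * x ∈ commutator twoJ2 :=
  sq_mem_commutator_of_closure _ refl_sq twoJ2_closure x

/-! ## the lift `X` of `aP` -/

/-- the line of the `k`-th generator reflection -/
def jl (k : ℕ) : Fin 315 := if k = 0 then 13 else if k = 1 then 277 else if k = 2 then 4 else 195

theorem pj_jl (k : ℕ) (hk : k < 4) : pj D (jl k) = gp k := by
  obtain ⟨h, hh⟩ := linked blockB k hk
  have : (⟨gidx.getD k 0, h⟩ : Fin 315) = jl k := by
    interval_cases k <;> rfl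
  rw [← this]
  exact hh

/-- the product of the reflections along a list of generator indices -/
noncomputable def XJ (ks : List ℕ) : twoJ2 := (ks.map fun k => reflJ D (jl k)).prod

theorem alpha_XJ : ∀ (ks : List ℕ), (∀ k ∈ ks, k < 4) → alpha D (XJ ks) = (ks.map gp).prod
  | [], _ => by simp [XJ]
  | k :: ks, h => by
    have ih := alpha_XJ ks fun j hj => h j (List.mem_cons_of_mem _ hj)
    unfold XJ at ih ⊢
    rw [List.map_cons, List.prod_cons, map_mul, ih, List.map_cons, List.prod_cons]
    congr 1
    exact pj_jl k (h k List.mem_cons_self)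

/-- the model action of a word of reflections -/
def applyW : List ℕ → V3 → V3
  | [], v => v
  | k :: ks, v => V3.reflM (cvec (jl k)) (applyW ks v)

theorem XJ_apply : ∀ (ks : List ℕ) (v : V3) (hv : v.toV ∈ icoLeech),
    (((XJ ks : twoJ2) : Equiv.Perm icoLeech) ⟨v.toV, hv⟩ : Fin 3 → ℍ[ℝ]) = (applyW ks v).toV
  | [], v, hv => by simp [XJ, applyW]
  | k :: ks, v, hv => by
    have ih := XJ_apply ks v hv
    have hmem : (applyW ks v).toV ∈ icoLeech := by rw [← ih]; exact Subtype.property _
    have hX : XJ (k :: ks) = reflJ D (jl k) * XJ ks := by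
      unfold XJ; rw [List.map_cons, List.prod_cons]
    rw [hX]
    show ((refl D (jl k) (((XJ ks : twoJ2) : Equiv.Perm icoLeech) ⟨v.toV, hv⟩) : icoLeech) :
      Fin 3 → ℍ[ℝ]) = _
    rw [refl_apply, ih]
    show qrefl (rep (jl k)) (applyW ks v).toV = (V3.reflM (cvec (jl k)) (applyW ks v)).toV
    unfold rep
    rw [toV_reflM (C_isMin _ (cvec_mem (jl k))) hmem]

theorem applyW_ne : applyW (aL ++ aL) (cvec 0) ≠ cvec 0 := by decide +kernel

theorem XJ_sq : XJ aL * XJ aL = negJ := by
  have h4 : ∀ k ∈ aL, k < 4 := by decide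
  have hα : alpha D (XJ aL * XJ aL) = 1 := by
    rw [map_mul, alpha_XJ aL h4]
    exact aP_mul_self
  rcases (alpha_eq_one_iff D _).mp hα with h | h
  · exfalso
    have hXX : XJ aL * XJ aL = XJ (aL ++ aL) := by
      unfold XJ; rw [List.map_append, List.prod_append]
    rw [hXX] at h
    have hv : (cvec 0).toV ∈ icoLeech := (rep_mem_min 0).1
    have h1 := XJ_apply (aL ++ aL) (cvec 0) hv
    rw [h] at h1
    exact applyW_ne (V3.toV_injective h1.symm)
  · exact h

theorem negJ_mem_commutator : negJ ∈ commutator twoJ2 := by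
  rw [← XJ_sq]
  exact sq_mem_commutator_twoJ2 _

/-- `2·J₂ → J₂` is a stem extension -/
theorem stem_twoJ2 : IsStemExtension (QuotientGroup.mk' (Subgroup.center twoJ2)) := by
  refine ⟨QuotientGroup.mk'_surjective _, ?_, ?_⟩
  · rw [QuotientGroup.ker_mk']
  · rw [QuotientGroup.ker_mk']
    intro z hz
    rcases (mem_center_iff z).mp hz with rfl | rfl
    · exact Subgroup.one_mem _
    · exact negJ_mem_commutator

end Cfsg.Agent.Lib.Helper24.J2M
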