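import Mathlib
import Cfsg.Agent.Lib.Helper4.TC.Schur
import Cfsg.Agent.Lib.Helper24.J2TC.Q6B
import Cfsg.Agent.Lib.Helper24.J2M.Gen
import Cfsg.Agent.Lib.Helper24.J2M.A5Pres
import Cfsg.Agent.Lib.Helper24.J2M.Words

/-!
# The upper bound for the Schur multiplier of `J₂` (helper24)

`card_ker_le_two` : let `P` be a group of order `604800` generated by `a, b` which satisfy
`a² = b³ = (ab)⁷ = (y₁ a)⁵ = 1` (`y₁` a certain conjugate of `b`) and such that six given words lie in the
derived group of the centralizer of `a`. Then the kernel of every finite stem extension of `P` has order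
at most `2`.

Proof: `M = ⟨a, y₁⟩ ≅ A₅`, so the derived group `L` of its preimage has order at most `120` (S0892) and
contains lifts `α, η` with `η³ = (η α)⁵ = 1`, `α²` central. With `β` the right conjugate of `η`, the pair
`α, β` satisfies a weak presentation (uniform, no primes) whose coset enumeration over `⟨a, y₁⟩` closes
with `10080` cosets (certificate `Q6`).
-/

set_option autoImplicit false
set_option linter.unusedVariables false
set_option linter.unusedSectionVars false

namespace Cfsg.Agent.Lib.Helper24.J2M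

open Cfsg Cfsg.Agent.Helper4.TC Cfsg.Agent.Lib.Helper24.J2TC
open scoped commutatorElement

theorem bases_ok : Q6.bases.all (fun b => decide (b ∈ basesS) || decide (invW b ∈ basesS)) = true := by
  decide +kernel

theorem subs_ok : Q6.subsL = [[0], y1W] := by decide +kernel

section ev

variable {P : Type*} [Group P] (f : Fin 2 → P)

theorem gl0 : gl f (Cod2.dec 0) = f 0 := rfl
theorem gl1 : gl f (Cod2.dec 1) = (f 0)⁻¹ := rfl
theorem gl2 : gl f (Cod2.dec 2) = f 1 := rfl
theorem gl3 : gl f (Cod2.dec 3) = (f 1)⁻¹ := rfl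

theorem evc_s0 : evc f Cod2.dec [0] = f 0 := by
  show evc f Cod2.dec [] * gl f (Cod2.dec 0) = _
  rw [evc_nil, one_mul, gl0]

theorem evc_s2 : evc f Cod2.dec [2] = f 1 := by
  show evc f Cod2.dec [] * gl f (Cod2.dec 2) = _
  rw [evc_nil, one_mul, gl2]

theorem evc_00 : evc f Cod2.dec [0, 0] = f 0 * f 0 := by
  show evc f Cod2.dec [] * gl f (Cod2.dec 0) * gl f (Cod2.dec 0) = _
  rw [evc_nil, one_mul, gl0]

theorem evc_222 : evc f Cod2.dec [2, 2, 2] = f 1 ^ 3 := by
  show evc f Cod2.dec [] * gl f (Cod2.dec 2) * gl f (Cod2.dec 2) * gl f (Cod2.dec 2) = _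
  rw [evc_nil, one_mul, gl2, pow_succ, pow_two]

theorem evc_y1W : evc f Cod2.dec y1W = evc f Cod2.dec wW * f 1 * (evc f Cod2.dec wW)⁻¹ := by
  unfold y1W
  rw [evc_append, evc_append, evc_invW f Cod2.coding, evc_s2, mul_assoc]

theorem evc_ay5W : evc f Cod2.dec ay5W = (evc f Cod2.dec y1W * f 0) ^ 5 := by
  unfold ay5W
  rw [evc_wpow, evc_append, evc_s0]

end ev

theorem card_ker_le_two {P : Type} [Group P] [Finite P] (a b : P)
    (hP : Nat.card P = 604800)
    (hgen : Subgroup.closure {a, b} = ⊤)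
    (hne : a ≠ 1)
    (haa : evc ![a, b] Cod2.dec [0, 0] = 1)
    (hbbb : evc ![a, b] Cod2.dec [2, 2, 2] = 1)
    (hr1 : evc ![a, b] Cod2.dec r1W = 1)
    (hay5 : evc ![a, b] Cod2.dec ay5W = 1)
    (hx : ∀ x ∈ xWs, evc ![a, b] Cod2.dec x ∈
      ⁅Subgroup.centralizer {a}, Subgroup.centralizer {a}⁆)
    {Γ : Type} [Group Γ] [Finite Γ] (σ : Γ →* P) (hσ : IsStemExtension σ) :
    Nat.card σ.ker ≤ 2 := by
  set f0 : Fin 2 → P := ![a, b] with hf0
  have hf00 : f0 0 = a := rfl
  have hf01 : f0 1 = b := rfl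
  have ha2 : a * a = 1 := by rw [evc_00] at haa; exact haa
  have hb3 : b ^ 3 = 1 := by rw [evc_222] at hbbb; exact hbbb
  set g : P := evc f0 Cod2.dec wW with hg
  set y : P := evc f0 Cod2.dec y1W with hy
  have hyg : y = g * b * g⁻¹ := evc_y1W f0
  have hy3 : y ^ 3 = 1 := by rw [hyg, conj_pow, hb3, mul_one, mul_inv_cancel]
  have hya : (y * a) ^ 5 = 1 := by rw [evc_ay5W] at hay5; exact hay5
  -- the subgroup `M ≅ A₅`
  let M : Subgroup P := Subgroup.closure {a, y}
  have haM : a ∈ M := Subgroup.subset_closure (by simp)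
  have hyM : y ∈ M := Subgroup.subset_closure (by simp)
  obtain ⟨e⟩ : Nonempty (M ≃* alternatingGroup (Fin 5)) := by
    apply a5_of_gens (⟨a, haM⟩ : M) ⟨y, hyM⟩
    · apply Subtype.ext; exact ha2
    · apply Subtype.ext; rw [Subgroup.coe_pow]; exact hy3
    · apply Subtype.ext; rw [Subgroup.coe_pow]; exact hya
    · intro h; exact hne (congrArg Subtype.val h)
    · have h1 : Subgroup.closure (((↑) : M → P) ⁻¹' {a, y}) = ⊤ :=
        Subgroup.closure_closure_coe_preimage
      rw [← h1]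
      congr 1
      ext z
      constructor
      · rintro (rfl | rfl)
        · left; rfl
        · right; rfl
      · rintro (h | h)
        · left; exact Subtype.ext h
        · right; exact Subtype.ext h
  obtain ⟨L, α, η, hαL, hηL, hcardL, hα, hη, hη3, hηα, hαα⟩ :=
    exists_pinned_lifts σ hσ a y M haM hyM e ha2 hy3 hya
  obtain ⟨γ, hγ⟩ := hσ.1 g
  set β : Γ := γ⁻¹ * η * γ with hβ
  have hσβ : σ β = b := by
    rw [hβ, map_mul, map_mul, map_inv, hγ, hη, hyg]; group
  set f : Fin 2 → Γ := ![α, β] with hf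
  have hf_0 : f 0 = α := rfl
  have hf_1 : f 1 = β := rfl
  have hσf : (fun i => σ (f i)) = f0 := by
    funext i
    fin_cases i
    · exact hα
    · exact hσβ
  have hσev : ∀ w : List ℕ, σ (evc f Cod2.dec w) = evc f0 Cod2.dec w := by
    intro w
    rw [Schur.map_evc σ f w, hσf]
  have hcen : ∀ k : Γ, σ k = 1 → k ∈ Subgroup.center Γ := fun k hk =>
    hσ.2.1 (MonoidHom.mem_ker.mpr hk)
  -- the word `y₁` evaluates to `η`
  have hevy : evc f Cod2.dec y1W = η := by
    rw [evc_y1W, hf_1]
    set ω : Γ := evc f Cod2.dec wW with hω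
    have hζ : γ⁻¹ * ω ∈ Subgroup.center Γ := by
      apply hcen
      rw [map_mul, map_inv, hγ, hω, hσev, inv_mul_cancel]
    have hζβ : (γ⁻¹ * ω) * β = β * (γ⁻¹ * ω) := (Subgroup.mem_center_iff.mp hζ β).symm
    have h1 : ω * β * ω⁻¹ = γ * ((γ⁻¹ * ω) * β) * (γ⁻¹ * ω)⁻¹ * γ⁻¹ := by group
    rw [h1, hζβ, hβ]
    group
  -- the relators
  have hβ3 : β ^ 3 = 1 := by
    rw [hβ]
    have : γ⁻¹ * η * γ = γ⁻¹ * η * γ⁻¹⁻¹ := by rw [inv_inv]
    rw [this, conj_pow, hη3, mul_one, inv_inv, inv_mul_cancel]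
  have hααc : α * α ∈ Subgroup.center Γ := hσ.2.1 hαα
  have hcomm_r1 : ∀ t : Γ, Commute t (evc f Cod2.dec r1W) := by
    intro t
    have : evc f Cod2.dec r1W ∈ Subgroup.center Γ := by
      apply hcen
      rw [hσev]; exact hr1
    exact (Subgroup.mem_center_iff.mp this t)
  have hcomm_x : ∀ x ∈ xWs, Commute α (evc f Cod2.dec x) := by
    intro x hxm
    have h1 := hx x hxm
    rw [← hα] at h1
    exact commute_of_map_mem_commutator_centralizer σ hσ.1 hσ.2.1 α _ h1 _ (by rw [hσev])
  have hS : ∀ w ∈ basesS, evc f Cod2.dec w = 1 := by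
    intro w hw
    unfold basesS at hw
    simp only [List.mem_cons, List.not_mem_nil, or_false] at hw
    rcases hw with rfl | rfl | rfl | rfl | rfl | rfl | rfl | rfl | rfl | rfl | rfl
    · apply evc_commW
      rw [evc_s2, evc_00, hf_0, hf_1]
      exact (Subgroup.mem_center_iff.mp hααc β)
    · rw [evc_222, hf_1]; exact hβ3
    · rw [evc_ay5W, hevy, hf_0]; exact hηα
    · apply evc_commW; rw [evc_s0, hf_0]; exact hcomm_x _ (by simp [xWs])
    · apply evc_commW; rw [evc_s0, hf_0]; exact hcomm_x _ (by simp [xWs])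
    · apply evc_commW; rw [evc_s0, hf_0]; exact hcomm_x _ (by simp [xWs])
    · apply evc_commW; rw [evc_s0, hf_0]; exact hcomm_x _ (by simp [xWs])
    · apply evc_commW; rw [evc_s0, hf_0]; exact hcomm_x _ (by simp [xWs])
    · apply evc_commW; rw [evc_s0, hf_0]; exact hcomm_x _ (by simp [xWs])
    · apply evc_commW; exact hcomm_r1 _
    · apply evc_commW; exact hcomm_r1 _
  have hB : ∀ w ∈ Q6.bases, evc f Cod2.dec w = 1 := by
    intro w hw
    have h1 := List.all_eq_true.mp bases_ok w hw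
    simp only [Bool.or_eq_true, decide_eq_true_eq] at h1
    rcases h1 with h1 | h1
    · exact hS w h1
    · have h2 := hS _ h1
      rw [evc_invW f Cod2.coding, inv_eq_one] at h2
      exact h2
  -- the homomorphism from the presented group
  have hrel : ∀ r ∈ relSet Cod2.dec Q6.bases, FreeGroup.lift f r = 1 := by
    rintro r ⟨w, hw, rfl⟩
    rw [lift_wordF]
    exact hB w hw
  let φ : PresentedGroup (relSet Cod2.dec Q6.bases) →* Γ := PresentedGroup.toGroup hrel
  have hφw : ∀ w : List ℕ, φ (PresentedGroup.mk (relSet Cod2.dec Q6.bases) (wordF Cod2.dec w)) =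
      evc f Cod2.dec w := fun w => toGroup_wordF _ Cod2.dec f hrel w
  have hφof : ∀ i, φ (PresentedGroup.of i) = f i := fun i => PresentedGroup.toGroup.of hrel
  -- surjectivity
  have hφsurj : Function.Surjective φ := by
    rw [← MonoidHom.range_eq_top]
    apply Schur.eq_top_of_map_eq_top σ hσ
    rw [eq_top_iff, ← hgen, Subgroup.closure_le]
    rintro z (rfl | rfl)
    · exact ⟨α, ⟨PresentedGroup.of 0, hφof 0⟩, hα⟩
    · exact ⟨β, ⟨PresentedGroup.of 1, hφof 1⟩, hσβ⟩
  -- the image of the subgroup lies in `L`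
  set H : Subgroup (PresentedGroup (relSet Cod2.dec Q6.bases)) :=
    (Subgroup.closure (relSet Cod2.dec Q6.subsL)).map
      (PresentedGroup.mk (relSet Cod2.dec Q6.bases)) with hH
  have hHL : H.map φ ≤ L := by
    rw [hH, Subgroup.map_map, MonoidHom.map_closure, Subgroup.closure_le]
    rintro _ ⟨r, ⟨w, hw, rfl⟩, rfl⟩
    show φ (PresentedGroup.mk _ (wordF Cod2.dec w)) ∈ L
    rw [hφw]
    rw [subs_ok] at hw
    simp only [List.mem_cons, List.not_mem_nil, or_false] at hw
    rcases hw with rfl | rfl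
    · rw [evc_s0]; exact hαL
    · rw [hevy]; exact hηL
  obtain ⟨hfin, hcard⟩ := Q6.bound
  have hidx : (H.map φ).index ≤ 10080 := by
    have h1 : (H.map φ).index ∣ H.index := Subgroup.index_map_dvd H hφsurj
    have h2 : H.index = Nat.card (PresentedGroup (relSet Cod2.dec Q6.bases) ⧸ H) :=
      Subgroup.index_eq_card H
    have h3 : 0 < H.index := by rw [h2]; exact Nat.card_pos
    have h4 : H.index ≤ 10080 := by rw [h2]; exact hcard
    exact le_trans (Nat.le_of_dvd h3 h1) h4
  have hcardH : Nat.card (H.map φ) ≤ 120 :=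
    le_trans (Subgroup.card_le_of_le hHL) hcardL
  have hΓ : Nat.card Γ ≤ 120 * 10080 := by
    rw [← (H.map φ).card_mul_index]
    exact Nat.mul_le_mul hcardH hidx
  have hΓ2 : Nat.card Γ = Nat.card σ.ker * 604800 := by
    have h1 := Subgroup.card_eq_card_quotient_mul_card_subgroup σ.ker
    rw [Nat.card_congr (QuotientGroup.quotientKerEquivOfSurjective σ hσ.1).toEquiv, hP] at h1
    rw [h1, mul_comm]
  rw [hΓ2] at hΓ
  omega

end Cfsg.Agent.Lib.Helper24.J2M
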