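import Mathlib
import Cfsg.Prelude.Def_KGroupFacts
import Cfsg.Agent.Lib.Helper24.J2M.Upper
import Cfsg.Agent.Lib.Helper24.J2M.Lower
import Cfsg.Agent.Lib.Helper24.J2M.PermSide

/-!
# The Schur multiplier of `J₂` is cyclic of order `2` (helper24)
-/

set_option autoImplicit false
set_option linter.unusedVariables false
set_option linter.unusedSectionVars false

namespace Cfsg.Agent.Lib.Helper24.J2M

open Cfsg Cfsg.Spor Cfsg.Agent.Helper4.TC Cfsg.Agent.Lib.Helper24.J2TC Cfsg.Agent.Lib.Helper28.BSGS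
  Cfsg.Agent.Lib.Helper11.Ico Cfsg.Agent.Lib.Helper16.IcoAsm Cfsg.Agent.Lib.Helper16.IcoFinal
  Cfsg.Agent.Lib.Helper16.IcoKer
open scoped commutatorElement

/-- the certified permutation group of degree `315` -/
abbrev PJ : Type := ↥(genGroup 315 9 PD.gens)

theorem gp_mem (k : ℕ) (hk : k < 4) : gp k ∈ genGroup 315 9 PD.gens :=
  gperm_mem (by rw [gens_length]; omega)

theorem list_mem : ∀ l : List ℕ, (∀ k ∈ l, k < 4) → (l.map gp).prod ∈ genGroup 315 9 PD.gens := by
  intro l h
  apply Subgroup.list_prod_mem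
  intro x hx
  obtain ⟨k, hk, rfl⟩ := List.mem_map.mp hx
  exact gp_mem k (h k hk)

theorem aP_mem : aP ∈ genGroup 315 9 PD.gens := list_mem aL (by decide)
theorem bP_mem : bP ∈ genGroup 315 9 PD.gens := list_mem bL (by decide)

noncomputable def aJ : PJ := ⟨aP, aP_mem⟩
noncomputable def bJ : PJ := ⟨bP, bP_mem⟩

noncomputable def fJ : Fin 2 → PJ := ![aJ, bJ]

theorem coe_evc (w : List ℕ) : ((evc fJ Cod2.dec w : PJ) : Equiv.Perm (Fin 315)) = evc fP Cod2.dec w := by
  have h := Schur.map_evc (dec := Cod2.dec) (genGroup 315 9 PD.gens).subtype fJ w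
  have hf : (fun x => (genGroup 315 9 PD.gens).subtype (fJ x)) = fP := by
    funext i
    fin_cases i <;> rfl
  rw [hf] at h
  exact h

theorem evcJ_eq {u v : List ℕ} (h : evc fP Cod2.dec u = evc fP Cod2.dec v) :
    evc fJ Cod2.dec u = evc fJ Cod2.dec v := by
  apply Subtype.ext
  rw [coe_evc, coe_evc, h]

theorem evcJ_one {u : List ℕ} (h : evc fP Cod2.dec u = 1) : evc fJ Cod2.dec u = 1 := by
  apply Subtype.ext
  rw [coe_evc, h]
  rfl

/-- words in `aP`, `bP` lie in the subgroup they generate -/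
theorem evc_mem_closure (w : List ℕ) :
    evc fP Cod2.dec w ∈ Subgroup.closure ({aP, bP} : Set (Equiv.Perm (Fin 315))) := by
  induction w with
  | nil => exact Subgroup.one_mem _
  | cons c u ih =>
    rw [evc_cons]
    apply Subgroup.mul_mem _ ih
    have hg : ∀ i : Fin 2, fP i ∈ Subgroup.closure ({aP, bP} : Set (Equiv.Perm (Fin 315))) := by
      intro i
      fin_cases i
      · exact Subgroup.subset_closure (by left; rfl)
      · exact Subgroup.subset_closure (by right; rfl)
    unfold gl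
    split
    · exact hg _
    · exact Subgroup.inv_mem _ (hg _)

theorem closure_aP_bP :
    Subgroup.closure ({aP, bP} : Set (Equiv.Perm (Fin 315))) = genGroup 315 9 PD.gens := by
  apply le_antisymm
  · rw [Subgroup.closure_le]
    rintro z (rfl | rfl)
    · exact aP_mem
    · exact bP_mem
  · apply genGroup_le_of_words PD.gens_ok _ 4
    · intro k hk _
      have h4 : k = 0 ∨ k = 1 ∨ k = 2 ∨ k = 3 := by omega
      rcases h4 with rfl | rfl | rfl | rfl
      · show gp 0 ∈ _; rw [g_eq0]; exact evc_mem_closure _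
      · show gp 1 ∈ _; rw [g_eq1]; exact evc_mem_closure _
      · show gp 2 ∈ _; rw [g_eq2]; exact evc_mem_closure _
      · show gp 3 ∈ _; rw [g_eq3]; exact evc_mem_closure _
    · exact permSide.words

theorem closure_aJ_bJ : Subgroup.closure ({aJ, bJ} : Set PJ) = ⊤ := by
  apply Subgroup.map_injective (genGroup 315 9 PD.gens).subtype_injective
  rw [MonoidHom.map_closure, ← MonoidHom.range_eq_map, Subgroup.range_subtype]
  have himg : (genGroup 315 9 PD.gens).subtype '' ({aJ, bJ} : Set PJ) =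
      ({aP, bP} : Set (Equiv.Perm (Fin 315))) := by
    ext z
    constructor
    · rintro ⟨y, (rfl | rfl), rfl⟩
      · left; rfl
      · right; rfl
    · rintro (rfl | rfl)
      · exact ⟨aJ, by left; rfl, rfl⟩
      · exact ⟨bJ, by right; rfl, rfl⟩
  rw [himg]
  exact closure_aP_bP

theorem coe_aJ : (aJ : Equiv.Perm (Fin 315)) = aP := rfl

theorem aJ_ne_one : aJ ≠ 1 := by
  intro h
  have h1 : (aJ : Equiv.Perm (Fin 315)) = ((1 : PJ) : Equiv.Perm (Fin 315)) := by rw [h]
  rw [Subgroup.coe_one, coe_aJ] at h1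
  exact aP_ne_one h1

theorem evcJ_s0 : evc fJ Cod2.dec [0] = aJ := by
  rw [evc_s0]; rfl

theorem mem_centralizer_of {c : List ℕ}
    (h : evc fP Cod2.dec ([0] ++ c) = evc fP Cod2.dec (c ++ [0])) :
    evc fJ Cod2.dec c ∈ Subgroup.centralizer ({aJ} : Set PJ) := by
  rw [Subgroup.mem_centralizer_iff]
  intro z hz
  rw [Set.mem_singleton_iff] at hz
  subst hz
  have h1 := evcJ_eq h
  rw [evc_append, evc_append, evcJ_s0] at h1
  exact h1.symm

theorem x_mem {x c d : List ℕ}
    (hc : evc fP Cod2.dec ([0] ++ c) = evc fP Cod2.dec (c ++ [0]))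
    (hd : evc fP Cod2.dec ([0] ++ d) = evc fP Cod2.dec (d ++ [0]))
    (hx : evc fP Cod2.dec x = evc fP Cod2.dec (cdW c d)) :
    evc fJ Cod2.dec x ∈ ⁅Subgroup.centralizer ({aJ} : Set PJ), Subgroup.centralizer {aJ}⁆ := by
  rw [evcJ_eq hx, evc_cdW]
  exact Subgroup.commutator_mem_commutator (mem_centralizer_of hc) (mem_centralizer_of hd)

/-- the upper bound for the certified permutation group -/
theorem upper_PJ {Γ : Type} [Group Γ] [Finite Γ] (σ : Γ →* PJ) (hσ : IsStemExtension σ) :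
    Nat.card σ.ker ≤ 2 := by
  haveI : Finite PJ := Nat.finite_of_card_ne_zero (by rw [card_G]; norm_num)
  refine card_ker_le_two aJ bJ card_G closure_aJ_bJ aJ_ne_one (evcJ_one rel_aa) (evcJ_one rel_bbb)
    (evcJ_one rel_r1) (evcJ_one rel_ay5) ?_ σ hσ
  intro x hx
  unfold xWs at hx
  simp only [List.mem_cons, List.not_mem_nil, or_false] at hx
  rcases hx with rfl | rfl | rfl | rfl | rfl | rfl
  · exact x_mem comm_c0 comm_d0 x_eq0
  · exact x_mem comm_c1 comm_d1 x_eq1
  · exact x_mem comm_c2 comm_d2 x_eq2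
  · exact x_mem comm_c3 comm_d3 x_eq3
  · exact x_mem comm_c4 comm_d4 x_eq4
  · exact x_mem comm_c5 comm_d5 x_eq5

/-- the upper bound for `J₂` -/
theorem upper_J2 {Γ : Type} [Group Γ] [Finite Γ] (σ : Γ →* J2) (hσ : IsStemExtension σ) :
    Nat.card σ.ker ≤ 2 := by
  let e : J2 ≃* PJ := Cfsg.Agent.Lib.Helper16.IcoRows.J2Equiv
  let τ : Γ →* PJ := e.toMonoidHom.comp σ
  have hker : τ.ker = σ.ker := by
    ext x
    rw [MonoidHom.mem_ker, MonoidHom.mem_ker]
    show e (σ x) = 1 ↔ σ x = 1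
    exact e.map_eq_one_iff
  have hτ : IsStemExtension τ := by
    refine ⟨e.surjective.comp hσ.1, ?_, ?_⟩
    · rw [hker]; exact hσ.2.1
    · rw [hker]; exact hσ.2.2
  have := upper_PJ τ hτ
  rw [hker] at this
  exact this

theorem main : HasCyclicSchurMultiplier J2 2 := by
  haveI : Fact (Nat.Prime 2) := ⟨Nat.prime_two⟩
  have hZ : Nat.card (Multiplicative (ZMod 2)) = 2 := by
    rw [Nat.card_eq_fintype_card]; rfl
  refine ⟨?_, ?_⟩
  · haveI : Finite twoJ2 :=
      Nat.finite_of_card_ne_zero (by rw [Cfsg.Agent.Lib.Helper16.IcoRows.S1619.1]; norm_num)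
    refine ⟨twoJ2, inferInstance, inferInstance, QuotientGroup.mk' (Subgroup.center twoJ2),
      stem_twoJ2, ?_⟩
    have hc : Nat.card (QuotientGroup.mk' (Subgroup.center twoJ2)).ker = 2 := by
      rw [QuotientGroup.ker_mk']
      exact card_center
    exact ⟨mulEquivOfPrimeCardEq hc hZ⟩
  · intro Γ _ _ σ hσ
    have hle := upper_J2 σ hσ
    have hpos : 0 < Nat.card σ.ker := Nat.card_pos
    have h12 : Nat.card σ.ker = 1 ∨ Nat.card σ.ker = 2 := by omega
    rcases h12 with h1 | h2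
    · refine ⟨1, fun x => ⟨1, ?_⟩⟩
      have hsub : Subsingleton σ.ker := (Nat.card_eq_one_iff_unique.mp h1).1
      exact Subsingleton.elim _ _
    · have e : Multiplicative (ZMod 2) ≃* σ.ker := mulEquivOfPrimeCardEq hZ h2
      exact ⟨e.toMonoidHom, e.surjective⟩

end Cfsg.Agent.Lib.Helper24.J2M
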